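import Groth.Agent.ArtFunLib.Basic
import Groth.Prelude.Def_ArtFun5
import Mathlib

/-!
# The general first order lifting criterion in characteristic zero
-/

set_option autoImplicit false

universe u v

open CategoryTheory MvPolynomial

namespace Groth.Agent.ArtFunT1

noncomputable section

open ArtFun ArtFun.Art Groth.Agent.ArtFunLib

set_option backward.isDefEq.respectTransparency false
set_option backward.isDefEq.respectTransparency.types false

variable {k : Type u} [Field k]

theorem coeff_zero_eq {n : ℕ} (g : MvPolynomial (Fin n) k) :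
    g - C (constantCoeff g) ∈ idealOfVars (Fin n) k := by
  rw [← pow_one (idealOfVars (Fin n) k), mem_pow_idealOfVars_iff]
  intro x hx
  rcases Nat.eq_zero_or_pos x.degree with h | h
  · rw [Finsupp.degree_eq_zero_iff] at h
    subst h
    simp [mem_support_iff, constantCoeff_eq] at hx
  · exact h

/-- In characteristic zero a polynomial of order at least `s` with all derivatives of order `s` has order `s + 1`. -/
theorem mem_pow_succ_of_pderiv [CharZero k] {n s : ℕ} (hs : 1 ≤ s) {g : MvPolynomial (Fin n) k}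
    (hg : g ∈ idealOfVars (Fin n) k ^ s) (h : ∀ i, pderiv i g ∈ idealOfVars (Fin n) k ^ s) :
    g ∈ idealOfVars (Fin n) k ^ (s + 1) := by
  rw [mem_pow_idealOfVars_iff] at hg ⊢
  intro x hx
  have h1 := hg x hx
  rcases Nat.lt_or_ge x.degree (s + 1) with hlt | hge
  · exfalso
    obtain ⟨j, hj⟩ : ∃ j, 1 ≤ x j := by
      by_contra hne
      push Not at hne
      have : x = 0 := Finsupp.ext fun j => by simpa using hne j
      subst this
      simp at h1
      omega
    have hle : Finsupp.single j 1 ≤ x := Finsupp.single_le_iff.mpr hj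
    have he : x - Finsupp.single j 1 + Finsupp.single j 1 = x := tsub_add_cancel_of_le hle
    have hd : (x - Finsupp.single j 1).degree + 1 = x.degree := by
      conv_rhs => rw [← he, map_add, Finsupp.degree_single]
    have hmem := h j
    rw [mem_pow_idealOfVars_iff] at hmem
    have := hmem (x - Finsupp.single j 1) (by
      rw [mem_support_iff, coeff_pderiv, he]
      exact mul_ne_zero (mem_support_iff.mp hx) (Nat.cast_add_one_ne_zero _))
    omega
  · exact hge

theorem pderiv_mem_pow {n s : ℕ} {g : MvPolynomial (Fin n) k}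
    (hg : g ∈ idealOfVars (Fin n) k ^ (s + 1)) (i : Fin n) : pderiv i g ∈ idealOfVars (Fin n) k ^ s := by
  rw [mem_pow_idealOfVars_iff] at hg ⊢
  intro x hx
  rw [mem_support_iff, coeff_pderiv] at hx
  have := hg _ (mem_support_iff.mpr (left_ne_zero_of_mul hx))
  rw [map_add, Finsupp.degree_single] at this
  omega

variable (R : CRing k k)

local notation "𝔪" => IsLocalRing.maximalIdeal R.carrier

theorem exists_sub_algebraMap_mem (r : R.carrier) : r - algebraMap k R.carrier (R.res r) ∈ 𝔪 := by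
  rw [CRing.mem_maximalIdeal_iff, map_sub, AlgHom.commutes]
  simp

/-- Minimal generators of the maximal ideal. -/
structure Gens where
  /-- the number of generators -/
  n : ℕ
  /-- the generators -/
  x : Fin n → R.carrier
  span_eq : Ideal.span (Set.range x) = 𝔪
  indep : ∀ a : Fin n → k, (∑ i, algebraMap k R.carrier (a i) * x i) ∈ 𝔪 ^ 2 → a = 0

theorem exists_gens : Nonempty (Gens R) := by
  classical
  have hex : ∃ (n : ℕ) (x : Fin n → R.carrier), Ideal.span (Set.range x) = 𝔪 :=
    Submodule.fg_iff_exists_fin_generating_family.mp (IsNoetherian.noetherian 𝔪)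
  obtain ⟨x, hx⟩ := Nat.find_spec hex
  refine ⟨⟨_, x, hx, fun a ha => ?_⟩⟩
  by_contra hne
  obtain ⟨j, hj⟩ := Function.ne_iff.mp hne
  have hu : IsUnit (algebraMap k R.carrier (a j)) := (IsUnit.mk0 _ hj).map _
  let S : Finset (Fin (Nat.find hex)) := Finset.univ.erase j
  let K : Ideal R.carrier := Ideal.span (x '' (S : Set _))
  have hle : 𝔪 ≤ K ⊔ 𝔪 • 𝔪 := by
    rw [← hx, Ideal.span_le]
    rintro _ ⟨i, rfl⟩
    by_cases hi : i = j
    · subst hi
      obtain ⟨w, hw⟩ := hu
      have hsum := (Finset.add_sum_erase Finset.univ (fun l => algebraMap k R.carrier (a l) * x l)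
        (Finset.mem_univ i)).symm
      have hmem : algebraMap k R.carrier (a i) * x i ∈ K ⊔ 𝔪 • 𝔪 := by
        rw [eq_sub_of_add_eq hsum.symm, Ideal.smul_eq_mul, ← pow_two]
        refine Submodule.sub_mem _ (Ideal.mem_sup_right ha) (Ideal.mem_sup_left ?_)
        refine Submodule.sum_mem _ fun l hl => Ideal.mul_mem_left _ _ (Ideal.subset_span ⟨l, ?_, rfl⟩)
        simpa [S] using hl
      rw [← hx] at hmem
      have := Ideal.mul_mem_left _ (↑w⁻¹ : R.carrier) hmem
      rwa [← mul_assoc, ← hw, Units.inv_mul, one_mul] at this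
    · exact Ideal.mem_sup_left (Ideal.subset_span ⟨i, by simp [S, hi], rfl⟩)
  have hK : 𝔪 ≤ K := Submodule.le_of_le_smul_of_le_jacobson_bot (IsNoetherian.noetherian 𝔪)
    (IsLocalRing.maximalIdeal_le_jacobson _) hle
  let y : Fin S.card → R.carrier := fun i => x (S.equivFin.symm i).1
  refine Nat.find_min hex (m := S.card) (by
      show (Finset.univ.erase j).card < _
      exact lt_of_lt_of_eq (Finset.card_erase_lt_of_mem (Finset.mem_univ j)) (Finset.card_fin _)) ⟨y, le_antisymm ?_ (hK.trans (Ideal.span_mono ?_))⟩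
  · exact (Ideal.span_mono (by rintro _ ⟨i, rfl⟩; exact ⟨_, rfl⟩)).trans hx.le
  · rintro _ ⟨i, hi, rfl⟩
    exact ⟨S.equivFin ⟨i, hi⟩, by simp [y]⟩

variable {R} (G : Gens R)

/-- The presentation by the generators. -/
def Gens.pr : MvPolynomial (Fin G.n) k →ₐ[k] R.carrier := aeval G.x

theorem Gens.x_mem (i : Fin G.n) : G.x i ∈ 𝔪 := G.span_eq ▸ Ideal.subset_span ⟨i, rfl⟩

theorem Gens.map_pow (t : ℕ) : (idealOfVars (Fin G.n) k ^ t).map G.pr = 𝔪 ^ t := by
  rw [Ideal.map_pow]
  congr 1
  rw [idealOfVars, Ideal.map_span, ← Set.range_comp]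
  convert G.span_eq using 3
  funext i
  simp [Gens.pr]

theorem Gens.res_pr (g : MvPolynomial (Fin G.n) k) : R.res (G.pr g) = constantCoeff g := by
  have h : R.res.comp G.pr = aeval (fun _ : Fin G.n => (0 : k)) := by
    refine MvPolynomial.algHom_ext fun i => ?_
    simp [Gens.pr, (CRing.mem_maximalIdeal_iff R _).mp (G.x_mem i)]
  exact (DFunLike.congr_fun h g).trans (by simp [aeval_zero'])

theorem Gens.exists_step (t : ℕ) (y : R.carrier) (hy : y ∈ 𝔪 ^ t) :
    ∃ g ∈ idealOfVars (Fin G.n) k ^ t, y - G.pr g ∈ 𝔪 ^ (t + 1) := by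
  rw [← G.map_pow t, Ideal.map] at hy
  induction hy using Submodule.span_induction with
  | mem y hy =>
    obtain ⟨g, hg, rfl⟩ := hy
    exact ⟨g, hg, by simp⟩
  | zero => exact ⟨0, Submodule.zero_mem _, by simp⟩
  | add y z _ _ hy hz =>
    obtain ⟨g, hg, hy⟩ := hy
    obtain ⟨g', hg', hz⟩ := hz
    exact ⟨g + g', add_mem hg hg', by rw [map_add, add_sub_add_comm]; exact add_mem hy hz⟩
  | smul c y hy' hy =>
    obtain ⟨g, hg, hy⟩ := hy
    refine ⟨C (R.res c) * g, Ideal.mul_mem_left _ _ hg, ?_⟩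
    have hy'' : y ∈ 𝔪 ^ t := by rw [← G.map_pow t]; exact hy'
    have : c • y - G.pr (C (R.res c) * g) =
        (c - algebraMap k R.carrier (R.res c)) * y + algebraMap k R.carrier (R.res c) * (y - G.pr g) := by
      simp [Gens.pr, smul_eq_mul]; ring
    rw [this]
    refine add_mem ?_ (Ideal.mul_mem_left _ _ hy)
    rw [pow_succ']
    exact Ideal.mul_mem_mul (exists_sub_algebraMap_mem R c) hy''

theorem Gens.exists_approx (t : ℕ) (r : R.carrier) : ∃ g, r - G.pr g ∈ 𝔪 ^ t := by
  induction t with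
  | zero => exact ⟨0, by simp⟩
  | succ t ih =>
    obtain ⟨g, hg⟩ := ih
    obtain ⟨g', -, hg'⟩ := G.exists_step t _ hg
    exact ⟨g + g', by rw [map_add, ← sub_sub]; exact hg'⟩

/-- The presentation modulo a power of the maximal ideal. -/
def Gens.prMod (t : ℕ) : MvPolynomial (Fin G.n) k →ₐ[k] R.carrier ⧸ 𝔪 ^ t :=
  (Ideal.Quotient.mkₐ k _).comp G.pr

theorem Gens.prMod_surjective (t : ℕ) : Function.Surjective (G.prMod t) := by
  intro y
  obtain ⟨r, rfl⟩ := Ideal.Quotient.mk_surjective y
  obtain ⟨g, hg⟩ := G.exists_approx t r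
  exact ⟨g, (Ideal.Quotient.eq.mpr hg).symm⟩

/-- Algebra maps out of a truncation, from maps of polynomials. -/
theorem Gens.exists_lift {B : Type u} [CommRing B] [Algebra k B] (t : ℕ)
    (θ : MvPolynomial (Fin G.n) k →ₐ[k] B) (h : ∀ g, G.pr g ∈ 𝔪 ^ t → θ g = 0) :
    ∃ ψ : R.carrier →ₐ[k] B, (∀ g, ψ (G.pr g) = θ g) ∧ ∀ r ∈ 𝔪 ^ t, ψ r = 0 := by
  let ψ' : (R.carrier ⧸ 𝔪 ^ t) →ₐ[k] B := AlgHom.liftOfSurjective (G.prMod t) (G.prMod_surjective t) θ
    fun g hg => h g (Ideal.Quotient.eq_zero_iff_mem.mp hg)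
  refine ⟨ψ'.comp (Ideal.Quotient.mkₐ k _), fun g => ?_, fun r hr => ?_⟩
  · exact AlgHom.liftOfSurjective_apply (G.prMod t) (G.prMod_surjective t) θ (fun g hg => h g (Ideal.Quotient.eq_zero_iff_mem.mp hg)) g
  · simp [Ideal.Quotient.eq_zero_iff_mem.mpr hr]

theorem Gens.base_one {g : MvPolynomial (Fin G.n) k} (hg : G.pr g ∈ 𝔪) : g ∈ idealOfVars (Fin G.n) k := by
  rw [CRing.mem_maximalIdeal_iff, G.res_pr] at hg
  simpa [hg] using coeff_zero_eq g

theorem Gens.base_two {g : MvPolynomial (Fin G.n) k} (hg : G.pr g ∈ 𝔪 ^ 2) :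
    g ∈ idealOfVars (Fin G.n) k ^ 2 := by
  classical
  let a : Fin G.n → k := fun i => coeff (Finsupp.single i 1) g
  have h1 : g ∈ idealOfVars (Fin G.n) k := G.base_one (Ideal.pow_le_self two_ne_zero hg)
  have h2 : g - ∑ i, C (a i) * X i ∈ idealOfVars (Fin G.n) k ^ 2 := by
    rw [mem_pow_idealOfVars_iff]
    intro x hx
    rw [← pow_one (idealOfVars (Fin G.n) k), mem_pow_idealOfVars_iff] at h1
    rw [mem_support_iff, coeff_sub, coeff_sum] at hx
    rcases Nat.lt_or_ge x.degree 2 with hlt | hge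
    · exfalso
      by_cases h0 : x.degree = 0
      · rw [Finsupp.degree_eq_zero_iff] at h0
        subst h0
        refine hx ?_
        have : coeff 0 g = 0 := by
          by_contra hc
          have := h1 0 (mem_support_iff.mpr hc)
          simp at this
        simp [this, coeff_X']
      · obtain ⟨i, hi⟩ : ∃ a, x = Finsupp.single a 1 :=
          (Finsupp.sum_eq_one_iff x).mp (by rw [show (x.sum fun _ n => n) = x.degree from rfl]; omega)
        subst hi
        refine hx ?_
        simp [a, coeff_X', Finsupp.single_left_inj]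
    · exact hge
  have h3 : (∑ i, algebraMap k R.carrier (a i) * G.x i) ∈ 𝔪 ^ 2 := by
    have := Ideal.mem_map_of_mem G.pr h2
    rw [G.map_pow] at this
    have e := sub_mem hg this
    simpa [Gens.pr] using e
  have ha := G.indep a h3
  simpa [ha] using h2

/-- The lifting hypothesis for the functor of `R`. -/
def T1 (R : CRing k k) : Prop :=
  ∀ ⦃A A' A'' : Art k k⦄ (π' : A' ⟶ A) (i' : A ⟶ A') (π'' : A'' ⟶ A) (i'' : A ⟶ A'')
    (q : A'' ⟶ A'), i' ≫ π' = 𝟙 A → i'' ≫ π'' = 𝟙 A →
    RingHom.ker π'.toAlgHom * RingHom.ker π'.toAlgHom = ⊥ →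
    RingHom.ker π''.toAlgHom * RingHom.ker π''.toAlgHom = ⊥ →
    q ≫ π' = π'' → i'' ≫ q = i' → Function.Surjective q →
    Function.Surjective (HomSet.map (R := R.carrier) (resR := R.res) q)

theorem snd_aeval {A : Type u} [CommRing A] [Algebra k A] {n : ℕ} (a : Fin n → A) (e : Fin n → (Fin n → A))
    (g : MvPolynomial (Fin n) k) :
    (aeval (fun i => (TrivSqZeroExt.inl (a i) + TrivSqZeroExt.inr (e i) : TrivSqZeroExt A (Fin n → A))) g).fst =
        aeval a g ∧
    (aeval (fun i => (TrivSqZeroExt.inl (a i) + TrivSqZeroExt.inr (e i) : TrivSqZeroExt A (Fin n → A))) g).snd =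
        ∑ i, aeval a (pderiv i g) • e i := by
  classical
  induction g using MvPolynomial.induction_on with
  | C c => simp [TrivSqZeroExt.algebraMap_eq_inl']
  | add p q hp hq => simp [hp.1, hp.2, hq.1, hq.2, add_smul, Finset.sum_add_distrib]
  | mul_X p j hp =>
    refine ⟨by simp [hp.1], ?_⟩
    rw [map_mul, aeval_X, TrivSqZeroExt.snd_mul, hp.1, hp.2]
    simp only [TrivSqZeroExt.fst_add, TrivSqZeroExt.fst_inl, TrivSqZeroExt.fst_inr, add_zero,
      TrivSqZeroExt.snd_add, TrivSqZeroExt.snd_inl, TrivSqZeroExt.snd_inr, zero_add, op_smul_eq_smul,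
      Derivation.leibniz, map_add, smul_eq_mul, map_mul, aeval_X, add_smul, Finset.sum_add_distrib,
      Finset.smul_sum, smul_smul, pderiv_X]
    congr 1
    rw [Finset.sum_eq_single j]
    · simp
    · intro b _ hb; simp [Pi.single_eq_of_ne (Ne.symm hb)]
    · simp

theorem Gens.key [CharZero k] (h : T1 R) (t : ℕ) :
    ∀ g : MvPolynomial (Fin G.n) k, G.pr g ∈ 𝔪 ^ t → g ∈ idealOfVars (Fin G.n) k ^ t := by
  induction t using Nat.strong_induction_on with
  | _ T₀ ihT =>
  match T₀, ihT with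
  | 0, _ => intro g _; simp
  | 1, _ => intro g hg; rw [pow_one] at hg ⊢; exact G.base_one hg
  | 2, _ => intro g hg; exact G.base_two hg
  | t + 3, ihT =>
    classical
    intro g₀ hg₀
    have IH := ihT (t + 2) (by omega)
    let A : Art k k := R.trunc (t + 1)
    let xb : Fin G.n → A := fun i => Ideal.Quotient.mk _ (G.x i)
    let qA : MvPolynomial (Fin G.n) k →ₐ[k] A := aeval xb
    have hqA : ∀ g, qA g = Ideal.Quotient.mk (𝔪 ^ (t + 2)) (G.pr g) := fun g =>
      (DFunLike.congr_fun (show (qA : MvPolynomial (Fin G.n) k →ₐ[k] A) =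
        (Ideal.Quotient.mkₐ k (CRing.mpow R (t + 1))).comp G.pr from
          MvPolynomial.algHom_ext fun i => by simp [qA, xb, Gens.pr]; exact congrArg _ (aeval_X G.x i).symm) g :)
    have hqker : ∀ g, qA g = 0 → g ∈ idealOfVars (Fin G.n) k ^ (t + 2) := fun g hg =>
      IH g (Ideal.Quotient.eq_zero_iff_mem.mp ((hqA g).symm.trans hg))
    let M := Fin G.n → A
    haveI : IsLocalRing (TrivSqZeroExt A M) :=
      IsLocalRing.of_isUnit_or_isUnit_one_sub_self fun a => by
        simp only [TrivSqZeroExt.isUnit_iff_isUnit_fst, TrivSqZeroExt.fst_sub, TrivSqZeroExt.fst_one]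
        exact IsLocalRing.isUnit_or_isUnit_one_sub_self a.fst
    haveI : Module.Finite A (TrivSqZeroExt A M) := inferInstanceAs (Module.Finite A (A × M))
    haveI : IsArtinianRing (TrivSqZeroExt A M) := IsArtinianRing.of_finite A _
    let fstA : TrivSqZeroExt A M →ₐ[k] A := TrivSqZeroExt.fstHom k A M
    let T : Art k k := Art.of (TrivSqZeroExt A M) (A.res.comp fstA)
      (A.res_surjective.comp fun a => ⟨TrivSqZeroExt.inl a, rfl⟩)
    let π'' : T ⟶ A := Art.homMk fstA rfl
    let i'' : A ⟶ T := Art.homMk (TrivSqZeroExt.inlAlgHom k A M) (AlgHom.ext fun _ => rfl)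
    let φ0 : MvPolynomial (Fin G.n) k →ₐ[k] TrivSqZeroExt A M :=
      aeval fun i => TrivSqZeroExt.inl (xb i) + TrivSqZeroExt.inr (Pi.single i 1)
    let N : Submodule A M :=
      Submodule.span A {v | ∃ g, G.pr g ∈ 𝔪 ^ (t + 3) ∧ v = (φ0 g).snd}
    let K : Ideal T :=
      { carrier := {z : TrivSqZeroExt A M | z.fst = 0 ∧ z.snd ∈ N}
        zero_mem' := ⟨rfl, N.zero_mem⟩
        add_mem' := fun {a b} ha hb => ⟨by
          show (a : TrivSqZeroExt A M).fst + (b : TrivSqZeroExt A M).fst = 0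
          rw [ha.1, hb.1, add_zero], N.add_mem ha.2 hb.2⟩
        smul_mem' := fun (c : TrivSqZeroExt A M) (z : TrivSqZeroExt A M) hz => by
          refine ⟨?_, ?_⟩
          · show (c * z).fst = 0
            rw [TrivSqZeroExt.fst_mul, hz.1, mul_zero]
          · show (c * z).snd ∈ N
            rw [TrivSqZeroExt.snd_mul, hz.1, MulOpposite.op_zero, zero_smul, add_zero]
            exact N.smul_mem _ hz.2 }
    have hK : K ≤ IsLocalRing.maximalIdeal T := fun z hz => by
      rw [Art.mem_maximalIdeal_iff]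
      show A.res (z : TrivSqZeroExt A M).fst = 0
      rw [hz.1, map_zero]
    let T' : Art k k := quot T K hK
    let q : T ⟶ T' := quotMk T K hK
    let π' : T' ⟶ A := quotFactor hK π'' fun z hz => hz.1
    have hsqT : RingHom.ker π''.toAlgHom * RingHom.ker π''.toAlgHom = ⊥ := by
      refine le_bot_iff.mp (Ideal.mul_le.mpr fun (a : TrivSqZeroExt A M) ha (b : TrivSqZeroExt A M) hb => ?_)
      have ha' : a.fst = 0 := ha
      have hb' : b.fst = 0 := hb
      show a * b = 0
      refine TrivSqZeroExt.ext ?_ ?_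
      · rw [TrivSqZeroExt.fst_mul, ha', zero_mul, TrivSqZeroExt.fst_zero]
      · rw [TrivSqZeroExt.snd_mul, ha', hb', MulOpposite.op_zero, zero_smul, zero_smul, add_zero,
          TrivSqZeroExt.snd_zero]
    have hsqT' : RingHom.ker π'.toAlgHom * RingHom.ker π'.toAlgHom = ⊥ := by
      refine le_bot_iff.mp (Ideal.mul_le.mpr fun a ha b hb => ?_)
      obtain ⟨a, rfl⟩ := quotMk_surjective T K hK a
      obtain ⟨b, rfl⟩ := quotMk_surjective T K hK b
      show quotMk T K hK a * quotMk T K hK b = 0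
      rw [← map_mul]
      have : a * b = 0 := by
        rw [← Ideal.mem_bot, ← hsqT]
        exact Ideal.mul_mem_mul ha hb
      rw [this, map_zero]
    obtain ⟨ψ', hψ', hψ'0⟩ := G.exists_lift (t + 3) ((q.toAlgHom).comp φ0) fun g hg => by
      refine (quotMk_eq_zero hK _).mpr ⟨?_, Submodule.subset_span ⟨g, hg, rfl⟩⟩
      show (φ0 g).fst = 0
      rw [(snd_aeval xb _ g).1]
      exact (hqA g).trans (Ideal.Quotient.eq_zero_iff_mem.mpr (Ideal.pow_le_pow_right (Nat.le_succ _) hg))
    have hπψ : ∀ r, π' (ψ' r) = Ideal.Quotient.mk (𝔪 ^ (t + 2)) r := by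
      intro r
      obtain ⟨g, hg⟩ := G.exists_approx (t + 3) r
      have e1 : ψ' r = ψ' (G.pr g) := sub_eq_zero.mp (by rw [← map_sub]; exact hψ'0 _ hg)
      rw [e1, hψ']
      show (φ0 g).fst = _
      rw [(snd_aeval xb _ g).1]
      refine (hqA g).trans (Ideal.Quotient.eq.mpr ?_)
      have := neg_mem (Ideal.pow_le_pow_right (Nat.le_succ (t + 2)) hg)
      rwa [neg_sub] at this
    have hres' : T'.res.comp ψ' = R.res := AlgHom.ext fun r => by
      show T'.res (ψ' r) = R.res r
      rw [← Art.res_app π', hπψ]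
      rfl
    obtain ⟨⟨ψ₀, hψres⟩, hψq⟩ := h π' (i'' ≫ q) π'' i'' q (hom_ext (AlgHom.ext fun _ => rfl))
      (hom_ext (AlgHom.ext fun _ => rfl)) hsqT' hsqT (quotMk_quotFactor hK π'' _) rfl
      (quotMk_surjective T K hK) ⟨ψ', hres'⟩
    let ψ : R.carrier →ₐ[k] TrivSqZeroExt A M := ψ₀
    have hq : ∀ r, q (ψ r) = ψ' r := fun r => congrArg (fun φ : HomSet R.carrier R.res T' => φ.1 r) hψq
    have hfst : ∀ r, (ψ r : TrivSqZeroExt A M).fst = Ideal.Quotient.mk (𝔪 ^ (t + 2)) r := fun r => by
      rw [← hπψ r, ← hq r]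
      rfl
    let y : Fin G.n → TrivSqZeroExt A M := fun i => ψ (G.x i)
    have hy : ∀ i, (y i).fst = xb i ∧ (y i).snd - Pi.single i 1 ∈ N := by
      intro i
      refine ⟨hfst _, ?_⟩
      have e : q (ψ (G.x i)) = q (φ0 (X i)) := by
        rw [hq]
        have := hψ' (X i)
        rw [show G.pr (X i) = G.x i by simp [Gens.pr]] at this
        exact this
      have e' : ψ (G.x i) - φ0 (X i) ∈ K := by
        rw [← quotMk_eq_zero hK, map_sub, sub_eq_zero]
        exact e
      have := e'.2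
      rw [TrivSqZeroExt.snd_sub] at this
      simpa [φ0, y] using this
    have hψpr : ∀ g, (ψ (G.pr g) : TrivSqZeroExt A M).snd = ∑ i, qA (pderiv i g) • (y i).snd := by
      intro g
      have e : (ψ.comp G.pr : MvPolynomial (Fin G.n) k →ₐ[k] TrivSqZeroExt A M) =
          aeval fun i => TrivSqZeroExt.inl (xb i) + TrivSqZeroExt.inr (y i).snd :=
        MvPolynomial.algHom_ext fun i => by
          rw [AlgHom.comp_apply, aeval_X, show G.pr (X i) = G.x i by simp [Gens.pr], ← (hy i).1]
          exact (TrivSqZeroExt.inl_fst_add_inr_snd_eq (y i)).symm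
      rw [← (snd_aeval xb (fun i => (y i).snd) g).2]
      exact congrArg TrivSqZeroExt.snd (DFunLike.congr_fun e g)
    let mA : Ideal A := IsLocalRing.maximalIdeal A
    have hxb : ∀ j, ∀ g ∈ idealOfVars (Fin G.n) k ^ j, qA g ∈ mA ^ j := by
      intro j g hg
      have h1 : (idealOfVars (Fin G.n) k).map qA ≤ mA := by
        rw [idealOfVars, Ideal.map_span, Ideal.span_le]
        rintro _ ⟨_, ⟨i, rfl⟩, rfl⟩
        show qA (X i) ∈ mA
        rw [Art.mem_maximalIdeal_iff]
        simp only [qA, aeval_X, xb]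
        exact (CRing.mem_maximalIdeal_iff R _).mp (G.x_mem i)
      have := Ideal.mem_map_of_mem qA hg
      rw [Ideal.map_pow] at this
      exact Ideal.pow_right_mono h1 j this
    have hmA : ∀ a : A, ∀ r, r ∈ 𝔪 → a = Ideal.Quotient.mk (𝔪 ^ (t + 2)) r → a ∈ mA := by
      intro a r hr e
      rw [e, Art.mem_maximalIdeal_iff]
      exact (CRing.mem_maximalIdeal_iff R r).mp hr
    have htop : mA ^ (t + 2) = ⊥ := by
      refine le_bot_iff.mp ((Ideal.pow_right_mono (CRing.maximalIdeal_quot_le R (t + 1)) _).trans ?_)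
      rw [← Ideal.map_pow]
      exact (Ideal.map_quotient_self _).le
    have hfil : ∀ (j : ℕ), ∀ r ∈ 𝔪 ^ (j + 1), ∀ i, (ψ r : TrivSqZeroExt A M).snd i ∈ mA ^ j := by
      intro j
      induction j with
      | zero => intro r _ i; simp
      | succ j ih =>
        intro r hr
        rw [pow_succ'] at hr
        refine Submodule.mul_induction_on hr (fun a ha b hb i => ?_) fun a b ha hb i => by
          rw [map_add, TrivSqZeroExt.snd_add, Pi.add_apply]
          exact add_mem (ha i) (hb i)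
        rw [map_mul, TrivSqZeroExt.snd_mul, op_smul_eq_smul, Pi.add_apply, Pi.smul_apply, Pi.smul_apply,
          smul_eq_mul, smul_eq_mul]
        refine add_mem ?_ ?_
        · rw [pow_succ']
          exact Ideal.mul_mem_mul (hmA _ a ha (hfst a)) (ih b hb i)
        · refine Ideal.mul_mem_right _ _ ?_
          obtain ⟨g, hg, hbg⟩ := G.exists_step (j + 1) b hb
          have hadd : (ψ b).fst = qA g + (ψ (b - G.pr g)).fst := by
            rw [map_sub, TrivSqZeroExt.fst_sub,
              show qA g = (ψ (G.pr g)).fst from (hqA g).trans (hfst (G.pr g)).symm, add_sub_cancel]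
          rw [hadd, hfst (b - G.pr g)]
          refine add_mem (hxb _ g hg) ?_
          have hle : (𝔪).map (Ideal.Quotient.mk (𝔪 ^ (t + 2))) ≤ mA := by
            rw [Ideal.map_le_iff_le_comap]
            exact fun x hx => hmA _ x hx rfl
          have h3 := Ideal.mem_map_of_mem (Ideal.Quotient.mk (𝔪 ^ (t + 2))) hbg
          rw [Ideal.map_pow] at h3
          exact Ideal.pow_le_pow_right (Nat.le_succ _) (Ideal.pow_right_mono hle _ h3)
    have hN : ∀ v ∈ N, ∀ i, v i ∈ mA ^ (t + 1) := by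
      intro v hv
      induction hv using Submodule.span_induction with
      | mem v hv =>
        obtain ⟨g, hg, rfl⟩ := hv
        intro i
        rw [(snd_aeval xb _ g).2, Finset.sum_apply]
        refine Submodule.sum_mem _ fun l _ => ?_
        rw [Pi.smul_apply, smul_eq_mul]
        exact Ideal.mul_mem_right _ _ (hxb _ _ (pderiv_mem_pow (IH g (Ideal.pow_le_pow_right (Nat.le_succ _) hg)) l))
      | zero => intro i; exact zero_mem _
      | add a b _ _ ha hb => intro i; exact add_mem (ha i) (hb i)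
      | smul c a _ ha => intro i; exact Ideal.mul_mem_left _ c (ha i)
    have hg₁ := IH g₀ (Ideal.pow_le_pow_right (Nat.le_succ _) hg₀)
    refine mem_pow_succ_of_pderiv (by omega) hg₁ fun j => hqker _ ?_
    have h0 : (ψ (G.pr g₀) : TrivSqZeroExt A M).snd = 0 := by
      funext i
      have := hfil (t + 2) _ hg₀ i
      rw [htop] at this
      exact Ideal.mem_bot.mp this
    rw [hψpr] at h0
    have h1 : ∑ i, qA (pderiv i g₀) * (y i).snd j = 0 :=
      (Finset.sum_apply j Finset.univ fun i => qA (pderiv i g₀) • (y i).snd).symm.trans (congrFun h0 j)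
    have h2 : ∀ i, qA (pderiv i g₀) * ((y i).snd j - (Pi.single i (1 : A) : Fin G.n → A) j) = 0 := fun i => by
      rw [← Ideal.mem_bot, ← htop]
      refine Ideal.pow_le_pow_right (show t + 2 ≤ (t + 1) + (t + 1) by omega) ?_
      rw [pow_add]
      exact Ideal.mul_mem_mul (hxb _ _ (pderiv_mem_pow hg₁ i)) (hN _ (hy i).2 j)
    have h3 : ∀ i, qA (pderiv i g₀) * (y i).snd j =
        qA (pderiv i g₀) * (Pi.single i (1 : A) : Fin G.n → A) j := fun i =>
      sub_eq_zero.mp ((mul_sub _ _ _).symm.trans (h2 i))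
    rw [Finset.sum_congr rfl fun i _ => h3 i, Finset.sum_eq_single j
      (fun i _ hi => by rw [Pi.single_eq_of_ne (Ne.symm hi), mul_zero]) (fun hj => absurd (Finset.mem_univ j) hj),
      Pi.single_eq_same, mul_one] at h1
    exact h1

/-- In characteristic zero the lifting hypothesis forces smoothness. -/
theorem isSmoothFunctor_hR [CharZero k] (h : T1 R) : IsSmoothFunctor (hR R.carrier R.res) := by
  obtain ⟨G⟩ := exists_gens R
  intro B A μ hμ φ
  obtain ⟨φ, hφ⟩ : HomSet R.carrier R.res A := φ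
  obtain ⟨NB, hNB⟩ : IsNilpotent (IsLocalRing.maximalIdeal B) :=
    (isArtinianRing_iff_isNilpotent_maximalIdeal B).1 inferInstance
  obtain ⟨NA, hNA⟩ : IsNilpotent (IsLocalRing.maximalIdeal A) :=
    (isArtinianRing_iff_isNilpotent_maximalIdeal A).1 inferInstance
  have hφm : (𝔪).map φ ≤ IsLocalRing.maximalIdeal A := by
    rw [Ideal.map_le_iff_le_comap]
    intro r hr
    rw [Ideal.mem_comap, Art.mem_maximalIdeal_iff]
    exact (DFunLike.congr_fun hφ r).trans ((CRing.mem_maximalIdeal_iff R r).mp hr)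
  choose b hb using fun i => hμ (φ (G.x i))
  have hbm : (idealOfVars (Fin G.n) k).map (aeval b : MvPolynomial (Fin G.n) k →ₐ[k] B) ≤
      IsLocalRing.maximalIdeal B := by
    rw [idealOfVars, Ideal.map_span, Ideal.span_le]
    rintro _ ⟨_, ⟨i, rfl⟩, rfl⟩
    show aeval b (X i) ∈ IsLocalRing.maximalIdeal B
    rw [aeval_X, Art.mem_maximalIdeal_iff, ← Art.res_app μ, hb]
    exact (DFunLike.congr_fun hφ _).trans ((CRing.mem_maximalIdeal_iff R _).mp (G.x_mem i))
  let N := NA + NB
  obtain ⟨ψ, hψ, hψ0⟩ := G.exists_lift N (aeval b : MvPolynomial (Fin G.n) k →ₐ[k] B) fun g hg => by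
    have := Ideal.mem_map_of_mem (aeval b : MvPolynomial (Fin G.n) k →ₐ[k] B) (G.key h N g hg)
    rw [Ideal.map_pow] at this
    have := Ideal.pow_right_mono hbm N this
    rw [show N = NA + NB from rfl, pow_add, hNB, Ideal.zero_eq_bot, Ideal.mul_bot] at this
    exact this
  have hcomp : ∀ r, μ (ψ r) = φ r := by
    intro r
    obtain ⟨g, hg⟩ := G.exists_approx N r
    have e1 : ψ r = ψ (G.pr g) := sub_eq_zero.mp (by rw [← map_sub]; exact hψ0 _ hg)
    have e2 : φ r = φ (G.pr g) := by
      refine sub_eq_zero.mp ?_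
      rw [← map_sub]
      have := Ideal.mem_map_of_mem φ hg
      rw [Ideal.map_pow] at this
      have := Ideal.pow_right_mono hφm N this
      rw [show N = NA + NB from rfl, pow_add, hNA, Ideal.zero_eq_bot, Ideal.bot_mul] at this
      exact this
    rw [e1, e2, hψ]
    exact DFunLike.congr_fun (show μ.toAlgHom.comp (aeval b) = φ.comp G.pr from
      MvPolynomial.algHom_ext fun i => by simp [Gens.pr]; exact hb i) g
  refine ⟨(⟨ψ, AlgHom.ext fun r => ?_⟩ : HomSet R.carrier R.res B), Subtype.ext (AlgHom.ext hcomp)⟩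
  show B.res (ψ r) = R.res r
  rw [← Art.res_app μ, hcomp]
  exact DFunLike.congr_fun hφ r

end

end Groth.Agent.ArtFunT1
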